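import Mathlib.RingTheory.MvPolynomial.Homogeneous
import Mathlib.Algebra.Polynomial.Degree.TrailingDegree
import Mathlib.Algebra.MvPolynomial.CommRing
import Mathlib.Tactic

/-! Factors of homogeneous polynomials are homogeneous. -/

set_option autoImplicit false

namespace Groth.Agent.Homog17

open MvPolynomial

variable {σ R : Type*} [CommRing R]

/-- `p ↦ p(t·x)` as a polynomial in `t`. -/
noncomputable def scale : MvPolynomial σ R →ₐ[R] Polynomial (MvPolynomial σ R) :=
  aeval fun i => Polynomial.C (X i) * Polynomial.X

theorem scale_monomial (d : σ →₀ ℕ) (a : R) :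
    scale (monomial d a) = Polynomial.C (monomial d a) * Polynomial.X ^ d.degree := by
  rw [scale, aeval_monomial, monomial_eq, map_mul Polynomial.C]
  simp only [Finsupp.prod, mul_pow, Finset.prod_mul_distrib, map_prod, map_pow]
  rw [Finset.prod_pow_eq_pow_sum, ← mul_assoc]
  rfl

theorem coeff_scale (p : MvPolynomial σ R) (n : ℕ) :
    (scale p).coeff n = homogeneousComponent n p := by
  induction p using MvPolynomial.induction_on' with
  | monomial d a =>
    rw [scale_monomial, Polynomial.coeff_C_mul, Polynomial.coeff_X_pow]
    split_ifs with h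
    · rw [mul_one, homogeneousComponent_of_mem (isHomogeneous_monomial a rfl), if_pos h]
    · rw [mul_zero, homogeneousComponent_of_mem (isHomogeneous_monomial a rfl), if_neg h]
  | add p q hp hq => rw [map_add, map_add, Polynomial.coeff_add, hp, hq]

theorem scale_eq_of_isHomogeneous {p : MvPolynomial σ R} {n : ℕ} (hp : p.IsHomogeneous n) :
    scale p = Polynomial.C p * Polynomial.X ^ n := by
  refine Polynomial.ext fun m => ?_
  rw [coeff_scale, homogeneousComponent_of_mem hp, Polynomial.coeff_C_mul, Polynomial.coeff_X_pow]
  split_ifs <;> simp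

theorem isHomogeneous_of_mul [IsDomain R] {p q : MvPolynomial σ R} {n : ℕ}
    (h : (p * q).IsHomogeneous n) (hne : p * q ≠ 0) : ∃ e, p.IsHomogeneous e := by
  have hs : scale p * scale q = Polynomial.C (p * q) * Polynomial.X ^ n := by
    rw [← map_mul, scale_eq_of_isHomogeneous h]
  have h0 : scale p * scale q ≠ 0 := by
    rw [hs]
    exact mul_ne_zero (Polynomial.C_ne_zero.2 hne) (pow_ne_zero _ Polynomial.X_ne_zero)
  have hp0 := left_ne_zero_of_mul h0
  have hq0 := right_ne_zero_of_mul h0
  have h1 := congrArg Polynomial.natDegree hs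
  have h2 := congrArg Polynomial.natTrailingDegree hs
  rw [Polynomial.natDegree_mul hp0 hq0, Polynomial.natDegree_C_mul_X_pow n _ hne] at h1
  rw [Polynomial.natTrailingDegree_mul hp0 hq0, Polynomial.natTrailingDegree_mul_X_pow
    (Polynomial.C_ne_zero.2 hne), Polynomial.natTrailingDegree_C, zero_add] at h2
  have h3 := Polynomial.natTrailingDegree_le_natDegree (scale p)
  have h4 := Polynomial.natTrailingDegree_le_natDegree (scale q)
  set e := (scale p).natDegree with he
  refine ⟨e, ?_⟩
  suffices p = homogeneousComponent e p by
    rw [this]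
    exact homogeneousComponent_isHomogeneous e p
  apply MvPolynomial.ext
  intro d
  rw [coeff_homogeneousComponent]
  split_ifs with hd
  · rfl
  · have hz : (scale p).coeff d.degree = 0 := by
      rcases lt_or_gt_of_ne hd with h' | h'
      · exact Polynomial.coeff_eq_zero_of_lt_natTrailingDegree (by omega)
      · exact Polynomial.coeff_eq_zero_of_natDegree_lt (by omega)
    rw [coeff_scale] at hz
    have := congrArg (coeff d) hz
    rwa [coeff_homogeneousComponent, if_pos rfl, coeff_zero] at this

end Groth.Agent.Homog17
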